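import Mathlib.Algebra.Homology.DerivedCategory.Ext.ExactSequences

/-!
# Splitting of a long exact `Ext` sequence

If `S : 0 ⟶ X₁ ⟶ X₂ ⟶ X₃ ⟶ 0` is short exact, `r : Ext^n(Z, X₂) → M` restricts to a bijection on `Ext^n(Z, X₁)`
and `Ext^{n+1}(Z, X₁) → Ext^{n+1}(Z, X₂)` is injective, then `Ext^n(Z, X₂) ≃ Ext^n(Z, X₃) × M`.
-/

set_option autoImplicit false
universe w v u

open CategoryTheory CategoryTheory.Limits CategoryTheory.Abelian

namespace Groth.Agent.Lefpen.H726.SplitLES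

variable {C : Type u} [Category.{v} C] [Abelian C] [HasExt.{w} C]

theorem nonempty_split (Z : C) {S : ShortComplex C} (hS : S.ShortExact) (n : ℕ) {M : Type*} [AddCommGroup M]
    (r : Ext.{w} Z S.X₂ n →+ M)
    (hr : Function.Bijective (fun x : Ext.{w} Z S.X₁ n => r (x.comp (Ext.mk₀ S.f) (add_zero n))))
    (hinj : ∀ x : Ext.{w} Z S.X₁ (n + 1), x.comp (Ext.mk₀ S.f) (add_zero (n + 1)) = 0 → x = 0) :
    Nonempty (Ext.{w} Z S.X₂ n ≃+ Ext.{w} Z S.X₃ n × M) := by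
  let g : Ext.{w} Z S.X₂ n →+ Ext.{w} Z S.X₃ n := (Ext.mk₀ S.g).postcomp Z (add_zero n)
  have hg : ∀ x, g x = x.comp (Ext.mk₀ S.g) (add_zero n) := fun _ => rfl
  let φ : Ext.{w} Z S.X₂ n →+ Ext.{w} Z S.X₃ n × M := g.prod r
  refine ⟨AddEquiv.ofBijective φ ⟨?_, ?_⟩⟩
  · rw [injective_iff_map_eq_zero]
    intro x hx
    have h1 : g x = 0 := congrArg Prod.fst hx
    have h2 : r x = 0 := congrArg Prod.snd hx
    obtain ⟨y, rfl⟩ := Ext.covariant_sequence_exact₂ Z hS x h1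
    have h3 : y = 0 := hr.1 (by
      change r (y.comp (Ext.mk₀ S.f) (add_zero n)) = r ((0 : Ext.{w} Z S.X₁ n).comp (Ext.mk₀ S.f) (add_zero n))
      rw [h2, Ext.zero_comp, map_zero])
    rw [h3, Ext.zero_comp]
  · rintro ⟨z, m⟩
    have h1 : z.comp hS.extClass (rfl : n + 1 = n + 1) = 0 := by
      apply hinj
      rw [Ext.comp_assoc_of_third_deg_zero, hS.extClass_comp, Ext.comp_zero]
    obtain ⟨x, hx⟩ := Ext.covariant_sequence_exact₃ Z hS z rfl h1
    obtain ⟨y, hy⟩ := hr.2 (m - r x)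
    refine ⟨x + y.comp (Ext.mk₀ S.f) (add_zero n), ?_⟩
    apply Prod.ext
    · change g (x + y.comp (Ext.mk₀ S.f) (add_zero n)) = z
      rw [map_add, hg, hx, hg, Ext.comp_assoc_of_third_deg_zero, Ext.mk₀_comp_mk₀, S.zero, Ext.mk₀_zero,
        Ext.comp_zero, add_zero]
    · change r (x + y.comp (Ext.mk₀ S.f) (add_zero n)) = m
      rw [map_add]
      change r x + (fun x : Ext.{w} Z S.X₁ n => r (x.comp (Ext.mk₀ S.f) (add_zero n))) y = m
      rw [hy]
      abel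

end Groth.Agent.Lefpen.H726.SplitLES
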