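import Groth.Agent.Etcore.OpenClosed
import Groth.Agent.Sga4B.ShriekTools
import Groth.Agent.Sga4B.TwoRowEt
import Groth.Agent.Lefpen.H726.SplitLES

/-!
# `0 ⟶ j_! M_U ⟶ M_X ⟶ i_* M_Z ⟶ 0` and the cohomology sequence

* `exists_ses`: the short exact sequence for complementary `i` closed, `j` open, constant coefficients;
* `subsingleton_H₁`: `H^{n+1}(X₁) = 0` if `H^{n+1}(X₂) = 0` and `H^n(X₃) = 0`;
* `nonempty_splitH`: the splitting lemma of `SplitLES` for étale cohomology.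
-/

set_option autoImplicit false
universe u v

open CategoryTheory CategoryTheory.Limits CategoryTheory.Abelian AlgebraicGeometry Opposite

namespace Groth.Agent.Lefpen.H726.ConstSES

open Groth.Agent.Etcore Groth.Agent.Sga4B.TwoRowEt

theorem exists_ses {Z U X : Scheme.{u}} (i : Z ⟶ X) [IsClosedImmersion i] (j : U ⟶ X) [IsOpenImmersion j]
    (hd : IsCompl (Set.range i) (Set.range j)) (M : Type) [AddCommGroup M] :
    ∃ (a : (EtShriek.extZero j).obj (EtCoh.const U M) ⟶ EtCoh.const X M)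
      (b : EtCoh.const X M ⟶ (EtCoh.push i).obj (EtCoh.const Z M)) (w : a ≫ b = 0),
      (ShortComplex.mk a b w).ShortExact := by
  have hS := OpenClosed.shortExact i j hd (EtCoh.const X M)
  let e1 : (EtShriek.extZero j).obj ((EtShriek.restrAlong j).obj (EtCoh.const X M)) ≅
      (EtShriek.extZero j).obj (EtCoh.const U M) :=
    (EtShriek.extZero j).mapIso ((ShriekBasic.pullIsoRestr j).symm.app _ ≪≫ EtCore.pullConst j M)
  let e3 : (EtCoh.push i).obj ((EtCoh.pull i).obj (EtCoh.const X M)) ≅ (EtCoh.push i).obj (EtCoh.const Z M) :=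
    (EtCoh.push i).mapIso (EtCore.pullConst i M)
  refine ⟨e1.inv ≫ (EtShriek.extZeroAdj j).counit.app (EtCoh.const X M),
    (EtCoh.pullPushAdj i).unit.app (EtCoh.const X M) ≫ e3.hom, ?_, ?_⟩
  · rw [Category.assoc, ← Category.assoc ((EtShriek.extZeroAdj j).counit.app _)]
    have h0 := OpenClosed.counit_unit i j hd.disjoint (EtCoh.const X M)
    rw [h0, zero_comp, comp_zero]
  · refine ShortComplex.shortExact_of_iso ?_ hS
    exact ShortComplex.isoMk e1 (Iso.refl _) e3 (by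
      change e1.hom ≫ e1.inv ≫ (EtShriek.extZeroAdj j).counit.app (EtCoh.const X M) =
        (EtShriek.extZeroAdj j).counit.app (EtCoh.const X M) ≫ 𝟙 _
      rw [e1.hom_inv_id_assoc, Category.comp_id]) (by
      change 𝟙 _ ≫ (EtCoh.pullPushAdj i).unit.app (EtCoh.const X M) ≫ e3.hom =
        (EtCoh.pullPushAdj i).unit.app (EtCoh.const X M) ≫ e3.hom
      rw [Category.id_comp])

section Ext

universe w'

variable {C : Type u} [Category.{v} C] [Abelian C] [HasExt.{w'} C]

theorem subsingleton_ext₁ (Z : C) {S : ShortComplex C} (hS : S.ShortExact) (n : ℕ)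
    (h2 : Subsingleton (Ext.{w'} Z S.X₂ (n + 1))) (h3 : Subsingleton (Ext.{w'} Z S.X₃ n)) :
    Subsingleton (Ext.{w'} Z S.X₁ (n + 1)) := by
  apply subsingleton_of_forall_eq 0
  intro x
  obtain ⟨y, rfl⟩ := Ext.covariant_sequence_exact₁ Z hS x (Subsingleton.elim _ _) rfl
  rw [Subsingleton.elim y 0, Ext.zero_comp]

end Ext

variable {X : Scheme.{u}} {S : ShortComplex (EtCoh.Ab X)} (hS : S.ShortExact)

include hS

theorem subsingleton_H₁ (n : ℕ) (h2 : Subsingleton (EtCoh.H X S.X₂ (n + 1)))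
    (h3 : Subsingleton (EtCoh.H X S.X₃ n)) : Subsingleton (EtCoh.H X S.X₁ (n + 1)) := by
  have e := he X
  have h2' := (HE X S.X₂ (n + 1)).symm.toEquiv.subsingleton
  have h3' := (HE X S.X₃ n).symm.toEquiv.subsingleton
  have := subsingleton_ext₁ (EtCoh.const X ℤ) hS n h2' h3'
  exact (HE X S.X₁ (n + 1)).toEquiv.subsingleton

theorem nonempty_splitH (n : ℕ) {M : Type*} [AddCommGroup M] (r : EtCoh.H X S.X₂ n →+ M)
    (hr : Function.Bijective (fun x : EtCoh.H X S.X₁ n => r (((EtCoh.HF X n).map S.f).hom x)))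
    (hinj : ∀ x : EtCoh.H X S.X₁ (n + 1), ((EtCoh.HF X (n + 1)).map S.f).hom x = 0 → x = 0) :
    Nonempty (EtCoh.H X S.X₂ n ≃+ EtCoh.H X S.X₃ n × M) := by
  have e := he X
  have hr' : Function.Bijective (fun x : Ext.{u + 1} (EtCoh.const X ℤ) S.X₁ n =>
      (r.comp (HE X S.X₂ n).symm.toAddMonoidHom) (x.comp (Ext.mk₀ S.f) (add_zero n))) :=
    (Function.Bijective.of_comp_iff _ (HE X S.X₁ n).bijective).1 hr
  have hinj' : ∀ x : Ext.{u + 1} (EtCoh.const X ℤ) S.X₁ (n + 1),
      x.comp (Ext.mk₀ S.f) (add_zero (n + 1)) = 0 → x = 0 := by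
    intro x hx
    have h1 : (HE X S.X₁ (n + 1)).symm x = 0 := hinj _ ((HE X S.X₂ (n + 1)).injective
      (((HE_map X (n + 1) S.f ((HE X S.X₁ (n + 1)).symm x)).trans hx).trans
        (map_zero (HE X S.X₂ (n + 1))).symm))
    exact (((HE X S.X₁ (n + 1)).apply_symm_apply x).symm.trans (congrArg (HE X S.X₁ (n + 1)) h1)).trans
      (map_zero (HE X S.X₁ (n + 1)))
  obtain ⟨E⟩ := SplitLES.nonempty_split (EtCoh.const X ℤ) hS n
    (r.comp (HE X S.X₂ n).symm.toAddMonoidHom) hr' hinj'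
  exact ⟨(HE X S.X₂ n).trans (E.trans ((HE X S.X₃ n).symm.prodCongr (AddEquiv.refl M)))⟩

end Groth.Agent.Lefpen.H726.ConstSES
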