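import Mathlib.Algebra.Group.Equiv.Basic
import Mathlib.Algebra.Group.Pi.Basic
import Mathlib.Algebra.Group.Prod
import Mathlib.Algebra.Group.Subgroup.Basic
import Mathlib.Data.Fin.Basic
import Mathlib.Tactic.Ring
import Mathlib.Tactic.Abel

/-!
# Products over `{j : Fin (r + 1) // 2 * j ≤ q}`
-/

set_option autoImplicit false
universe v

namespace Groth.Agent.Lefpen.H726.PiFin

variable (A : ℕ → Type v) [∀ n, AddCommGroup (A n)]

/-- The product of the `A (q - 2 j)`, `j ≤ r`, `2 j ≤ q`. -/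
abbrev Pr (r q : ℕ) : Type v := ∀ j : {j : Fin (r + 1) // 2 * j.1 ≤ q}, A (q - 2 * j.1.1)

theorem nonempty_zero (q : ℕ) : Nonempty (Pr A 0 q ≃+ A q) := by
  let φ : Pr A 0 q →+ A q := Pi.evalAddMonoidHom (fun j : {j : Fin (0 + 1) // 2 * j.1 ≤ q} => A (q - 2 * j.1.1))
    ⟨0, Nat.zero_le q⟩
  have hu : ∀ j : {j : Fin (0 + 1) // 2 * j.1 ≤ q}, j = ⟨0, Nat.zero_le q⟩ := by
    rintro ⟨j, hj⟩
    apply Subtype.ext
    exact Fin.eq_zero j
  refine ⟨AddEquiv.ofBijective φ ⟨fun a b h => ?_, fun y => ?_⟩⟩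
  · funext j
    obtain rfl := hu j
    exact h
  · refine ⟨fun j => (hu j) ▸ y, rfl⟩

/-- Restriction to the indices `< r + 1`. -/
def restr (r q : ℕ) : Pr A (r + 1) q →+ Pr A r q where
  toFun g := fun j => g ⟨Fin.castSucc j.1, j.2⟩
  map_zero' := rfl
  map_add' _ _ := rfl

theorem nonempty_small (r q : ℕ) (h : q < 2 * (r + 1)) : Nonempty (Pr A (r + 1) q ≃+ Pr A r q) := by
  refine ⟨AddEquiv.ofBijective (restr A r q) ⟨fun a b hab => ?_, fun g => ?_⟩⟩
  · funext ⟨j, hj⟩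
    induction j using Fin.lastCases with
    | last => simp at hj; omega
    | cast i => exact congrFun hab ⟨i, hj⟩
  · refine ⟨fun j => Fin.lastCases (motive := fun j => ∀ _ : 2 * j.1 ≤ q, A (q - 2 * j.1))
      (fun hj => absurd hj (by simp; omega)) (fun i hi => g ⟨i, hi⟩) j.1 j.2, ?_⟩
    funext ⟨j, hj⟩
    change Fin.lastCases (motive := fun j => ∀ _ : 2 * j.1 ≤ q, A (q - 2 * j.1))
      (fun hj => absurd hj (by simp; omega)) (fun i hi => g ⟨i, hi⟩) (Fin.castSucc j) hj = g ⟨j, hj⟩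
    rw [Fin.lastCases_castSucc]

theorem nonempty_large (r q i : ℕ) (h : i + 2 * (r + 1) = q) : Nonempty (Pr A (r + 1) q ≃+ Pr A r q × A i) := by
  obtain rfl : i = q - 2 * (r + 1) := by omega
  have hl : 2 * (Fin.last (r + 1)).1 ≤ q := by simp; omega
  let φ : Pr A (r + 1) q →+ Pr A r q × A (q - 2 * (r + 1)) := (restr A r q).prod
    (Pi.evalAddMonoidHom (fun j : {j : Fin (r + 1 + 1) // 2 * j.1 ≤ q} => A (q - 2 * j.1.1)) ⟨Fin.last (r + 1), hl⟩)
  refine ⟨AddEquiv.ofBijective φ ⟨fun a b hab => ?_, fun g => ?_⟩⟩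
  · have h1 := congrArg Prod.fst hab
    have h2 := congrArg Prod.snd hab
    funext ⟨j, hj⟩
    induction j using Fin.lastCases with
    | last => exact h2
    | cast i => exact congrFun h1 ⟨i, hj⟩
  · refine ⟨fun j => Fin.lastCases (motive := fun j => ∀ _ : 2 * j.1 ≤ q, A (q - 2 * j.1))
      (fun _ => g.2) (fun i hi => g.1 ⟨i, hi⟩) j.1 j.2, ?_⟩
    apply Prod.ext
    · funext ⟨j, hj⟩
      change Fin.lastCases (motive := fun j => ∀ _ : 2 * j.1 ≤ q, A (q - 2 * j.1))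
        (fun _ => g.2) (fun i hi => g.1 ⟨i, hi⟩) (Fin.castSucc j) hj = g.1 ⟨j, hj⟩
      rw [Fin.lastCases_castSucc]
    · change Fin.lastCases (motive := fun j => ∀ _ : 2 * j.1 ≤ q, A (q - 2 * j.1))
        (fun _ => g.2) (fun i hi => g.1 ⟨i, hi⟩) (Fin.last (r + 1)) hl = g.2
      rw [Fin.lastCases_last]

end Groth.Agent.Lefpen.H726.PiFin
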