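import Groth.Agent.Lefpen.H726.Step
import Groth.Agent.Lefpen.H726.PiFin
import Groth.Agent.Etrest.HpullFun
import Groth.Agent.Etrest.HConstIso

/-!
# Cohomology of `P^r_X`

* `nonempty_H_proj`: `H^q(P^r_X, ℤ/m) ≃ ∏_{j ≤ r, 2j ≤ q} H^{q-2j}(X, ℤ/m)`;
* `injective_Hpull_of_section`: pull back on cohomology along a morphism with a section is injective.
-/

set_option autoImplicit false
universe u

open CategoryTheory CategoryTheory.Limits AlgebraicGeometry Opposite

namespace Groth.Agent.Lefpen.H726.Decomp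

open ProjGeo

theorem nonempty_H_proj (k : Type u) [Field k] [IsSepClosed k] (m : ℕ) (hm : (m : k) ≠ 0)
    {X : Scheme.{u}} (f : X ⟶ Spec (CommRingCat.of k)) (r q : ℕ) :
    Nonempty (EtCoh.H (CohB1.ProjSpaceOver r X) (EtCoh.const (CohB1.ProjSpaceOver r X) (ZMod m)) q ≃+
      PiFin.Pr (fun n => EtCoh.H X (EtCoh.const X (ZMod m)) n) r q) := by
  induction r with
  | zero =>
    obtain ⟨e⟩ := Groth.Agent.Etrest.HConstIso.nonempty_HConst
      (asIso (CohB1.ProjSpaceOver.toBase 0 X)) (ZMod m) q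
    obtain ⟨e'⟩ := PiFin.nonempty_zero (fun n => EtCoh.H X (EtCoh.const X (ZMod m)) n) q
    exact ⟨e.symm.trans e'.symm⟩
  | succ r ih =>
    obtain ⟨e⟩ := ih
    by_cases h : q < 2 * (r + 1)
    · obtain ⟨e1⟩ := Step.step_small k m hm f r q h
      obtain ⟨e2⟩ := PiFin.nonempty_small (fun n => EtCoh.H X (EtCoh.const X (ZMod m)) n) r q h
      exact ⟨(e1.trans e).trans e2.symm⟩
    · obtain ⟨i, hi⟩ : ∃ i, i + 2 * (r + 1) = q := ⟨q - 2 * (r + 1), by omega⟩
      obtain ⟨e1⟩ := Step.step_large k m hm f r q i hi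
      obtain ⟨e2⟩ := PiFin.nonempty_large (fun n => EtCoh.H X (EtCoh.const X (ZMod m)) n) r q i hi
      exact ⟨(e1.trans (e.prodCongr (AddEquiv.refl _))).trans e2.symm⟩

/-- Pull back on cohomology along a morphism with a section is injective. -/
theorem injective_Hpull_of_section {X P : Scheme.{u}} (π : P ⟶ X) (s : X ⟶ P) (hs : s ≫ π = 𝟙 X)
    [PreservesFiniteLimits (EtCoh.pull π)] (G : EtCoh.Ab X) (q : ℕ) :
    Function.Injective (EtCore.Hpull π G q) := by
  have h1 : PreservesFiniteLimits (EtCoh.pull s) := Groth.Agent.S0101.result s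
  have h2 : PreservesFiniteLimits (EtCoh.pull (𝟙 X)) := Groth.Agent.S0101.result (𝟙 X)
  intro a b hab
  apply (Groth.Agent.Etrest.HConstIso.Hpull_bijective (𝟙 X) G q).1
  rw [← Groth.Agent.Etrest.HpullFun.Hpull_Hpull s π (𝟙 X) hs G q a,
    ← Groth.Agent.Etrest.HpullFun.Hpull_Hpull s π (𝟙 X) hs G q b, hab]

/-- Pull back on cohomology with constant coefficients along `P^r_X ⟶ X` is injective. -/
theorem injective_Hmap (r q : ℕ) (M : Type) [AddCommGroup M] (X : Scheme.{u})
    [PreservesFiniteLimits (EtCoh.pull (CohB1.ProjSpaceOver.toBase r X))] :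
    Function.Injective (((EtCoh.HF (CohB1.ProjSpaceOver r X) q).map
        (EtCore.pullConst (CohB1.ProjSpaceOver.toBase r X) M).hom).hom.comp
      (EtCore.Hpull (CohB1.ProjSpaceOver.toBase r X) (EtCoh.const X M) q)) := by
  obtain ⟨s, hs⟩ := exists_section X r
  have h1 := injective_Hpull_of_section (CohB1.ProjSpaceOver.toBase r X) s hs (EtCoh.const X M) q
  exact (ConcreteCategory.bijective_of_isIso ((EtCoh.HF (CohB1.ProjSpaceOver r X) q).map
        (EtCore.pullConst (CohB1.ProjSpaceOver.toBase r X) M).hom)).1.comp h1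

end Groth.Agent.Lefpen.H726.Decomp
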