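import Groth.Agent.S0001
import Groth.Agent.EtpbcB.SurjFaithful
import Groth.Agent.EtpbcB.GammaRpush
import Groth.Agent.CurvesA.MuConst
import Groth.Agent.Etcore.Stalks
import Groth.Prelude.Def_EtCore

/-!
# Consequences of proper base change: transfer of vanishing, sheaves on the spectrum of a separably closed field

* `isZero_Rpush_pull`, `isZero_Rpush_of_pull`: vanishing of `R^q f_* F` passes to (and descends along surjective)
  base changes of a proper morphism;
* `isZero_Rpush_iff`: `R^q a_* F = 0` iff `H^q(X, F) = 0` over a separably closed field;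
* `nonempty_Rpush_iso_const`: `R^q a_* F` is the constant sheaf `H^q(X, F)` over a separably closed field.
-/

set_option autoImplicit false
universe u

open CategoryTheory CategoryTheory.Limits AlgebraicGeometry Opposite

namespace Groth.Agent.Lefpen.H726.PbcZero

section PBC

variable {X Y X' Y' : Scheme.{u}} {f : X ⟶ Y} {g : Y' ⟶ Y} {f' : X' ⟶ Y'} {g' : X' ⟶ X}
  (h : IsPullback g' f' f g) [IsProper f] (F : EtCoh.Ab X) (hF : EtCoh.IsTorsion F) (q : ℕ)

include h hF

theorem nonempty_Rpush_pull : Nonempty ((EtCoh.pull g).obj ((EtCoh.Rpush f q).obj F) ≅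
    (EtCoh.Rpush f' q).obj ((EtCoh.pull g').obj F)) :=
  (Groth.Agent.S0001.result _ _ _ _ f g f' g' h F hF).1 q

theorem isZero_Rpush_pull (h0 : IsZero ((EtCoh.Rpush f q).obj F)) :
    IsZero ((EtCoh.Rpush f' q).obj ((EtCoh.pull g').obj F)) := by
  obtain ⟨e⟩ := nonempty_Rpush_pull h F hF q
  exact ((EtCoh.pull g).map_isZero h0).of_iso e.symm

theorem isZero_Rpush_of_pull [Surjective g]
    (h0 : IsZero ((EtCoh.Rpush f' q).obj ((EtCoh.pull g').obj F))) : IsZero ((EtCoh.Rpush f q).obj F) := by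
  obtain ⟨e⟩ := nonempty_Rpush_pull h F hF q
  have h1 : IsZero ((EtCoh.pull g).obj ((EtCoh.Rpush f q).obj F)) := h0.of_iso e
  have := Groth.Agent.EtpbcB.SurjFaithful.pull_faithful g
  rw [IsZero.iff_id_eq_zero] at h1 ⊢
  apply (EtCoh.pull g).map_injective
  rw [CategoryTheory.Functor.map_id, h1, Functor.map_zero]

end PBC

section Field

open Groth.Agent.EtpbcB.SepClosedPoint Groth.Agent.EtpbcB.GammaRpush

variable {k : Type u} [Field k] [IsSepClosed k]

theorem exists_hom_top (V : (Spec (CommRingCat.of k)).Etale) (v : V.left) :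
    ∃ s : EtCoh.top (Spec (CommRingCat.of k)) ⟶ V,
      ∃ w : (EtCoh.top (Spec (CommRingCat.of k))).left, s.left w = v := by
  obtain ⟨l, hl, hl'⟩ := Scheme.exists_fac_of_etale_of_isSepClosed V.hom (𝟙 (Spec (CommRingCat.of k))) v
    (Subsingleton.elim (α := Spec (CommRingCat.of k)) _ _)
  exact ⟨MorphismProperty.Over.homMk l hl trivial, (default : Spec (CommRingCat.of k)), hl'⟩

/-- A sheaf on the spectrum of a separably closed field is constant. -/
theorem nonempty_iso_const_of_sect (F : EtCoh.Ab (Spec (CommRingCat.of k))) (M : Type) [AddCommGroup M]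
    (e : EtCoh.sect F (EtCoh.top (Spec (CommRingCat.of k))) ≃+ M) :
    Nonempty (EtCoh.const (Spec (CommRingCat.of k)) M ≅ F) := by
  refine Groth.Agent.CurvesA.MuConst.nonempty_iso_const F M e.symm.toAddMonoidHom ?_ ?_
  · rintro U ⟨v⟩ m hm
    obtain ⟨s, -, -⟩ := exists_hom_top U v
    have h1 := congrArg (F.obj.map s.op) hm
    rw [map_zero, ← ConcreteCategory.comp_apply, ← F.obj.map_comp, ← op_comp,
      hom_top_unique (s ≫ Groth.Agent.CurvesA.MuConst.toTop U) (𝟙 _)] at h1
    have h2 : e.symm m = 0 := by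
      simpa using h1
    exact (map_eq_zero_iff e.symm e.symm.injective).1 h2
  · intro U t x
    obtain ⟨s, w, hw⟩ := exists_hom_top U x
    refine ⟨_, s, w, e (F.obj.map s.op t), hw, ?_⟩
    rw [hom_top_unique (Groth.Agent.CurvesA.MuConst.toTop _) (𝟙 _)]
    simp

variable {X : Scheme.{u}} (a : X ⟶ Spec (CommRingCat.of k)) (F : EtCoh.Ab X) (q : ℕ)

/-- `R^q a_* F = 0` over a separably closed field if `H^q(X, F) = 0`. -/
theorem isZero_Rpush (h : Subsingleton (EtCoh.H X F q)) : IsZero ((EtCoh.Rpush a q).obj F) := by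
  refine Groth.Agent.Etcore.Stalks.isZero_of_stalks _ fun x => ?_
  refine ⟨k, inferInstance, inferInstance, pt k, ?_, ?_⟩
  · exact Subsingleton.elim _ _
  · obtain ⟨e⟩ := stalk_id_Rpush a F q
    exact @AddCommGrpCat.isZero_of_subsingleton _ e.toEquiv.subsingleton

/-- `R^q a_* F` is the constant sheaf `H^q(X, F)`. -/
theorem nonempty_Rpush_iso_const (M : Type) [AddCommGroup M] (e : EtCoh.H X F q ≃+ M) :
    Nonempty (EtCoh.const (Spec (CommRingCat.of k)) M ≅ (EtCoh.Rpush a q).obj F) := by
  obtain ⟨e'⟩ := gamma_Rpush a F q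
  exact nonempty_iso_const_of_sect _ M (e'.trans e)

end Field

end Groth.Agent.Lefpen.H726.PbcZero
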