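import Groth.Agent.Sga5.ProjHyper
import Groth.Agent.Dix.ProjProper
import Groth.Agent.CohqB.ProjBC
import Mathlib.AlgebraicGeometry.Morphisms.OpenImmersion
import Mathlib.AlgebraicGeometry.Restrict

/-!
# `P^r_X ⊂ P^{r+1}_X ⊃ A^{r+1}_X` for a `k`-scheme `X`

* `prk n f : ProjSpaceOver n X ⟶ ProjSpace n R` over `f : X ⟶ Spec R`, cartesian (`isPullback_prk`);
* `hyperX r f : ProjSpaceOver r X ⟶ ProjSpaceOver (r + 1) X`, the hyperplane at infinity, a closed immersion over `X`;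
* `aff n R : (ProjSpace n R).Opens`, the chart; `affX n f`, its preimage, the complement of `hyperX`.
-/

set_option autoImplicit false
universe u

open CategoryTheory CategoryTheory.Limits AlgebraicGeometry MvPolynomial

namespace Groth.Agent.Lefpen.H726.ProjGeo

open Groth.Agent.Dix.ProjProper Groth.Agent.Sga5.ProjHyper Groth.Agent.Sga5.ProjSmooth
  Groth.Agent.Sga5.ProjChart Groth.Agent.CohqB.ProjBC

variable {R : Type u} [CommRing R] {X : Scheme.{u}} (f : X ⟶ Spec (CommRingCat.of R))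

/-- `P^n_X ⟶ P^n_R`. -/
noncomputable def prk (n : ℕ) : CohB1.ProjSpaceOver n X ⟶ CohB1.ProjSpace n R :=
  mapBase n f ≫ (projSpaceOverIso n R).hom

theorem isPullback_prk (n : ℕ) :
    IsPullback (prk f n) (CohB1.ProjSpaceOver.toBase n X) (CohB1.ProjSpace.toSpec n R) f := by
  have h1 := isPullback_mapBase n f
  have h2 : IsPullback (projSpaceOverIso n R).hom
      (CohB1.ProjSpaceOver.toBase n (Spec (CommRingCat.of R))) (CohB1.ProjSpace.toSpec n R)
      (𝟙 (Spec (CommRingCat.of R))) :=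
    IsPullback.of_horiz_isIso ⟨by rw [projSpaceOverIso_hom_toSpec, Category.comp_id]⟩
  have h3 := h1.paste_horiz h2
  rwa [Category.comp_id] at h3

/-- The hyperplane at infinity of `P^{r+1}_X`. -/
noncomputable def hyperX (r : ℕ) : CohB1.ProjSpaceOver r X ⟶ CohB1.ProjSpaceOver (r + 1) X :=
  (isPullback_prk f (r + 1)).lift (prk f r ≫ hyper r R) (CohB1.ProjSpaceOver.toBase r X) (by
    rw [Category.assoc, hyper_toSpec, (isPullback_prk f r).w])

@[reassoc]
theorem hyperX_prk (r : ℕ) : hyperX f r ≫ prk f (r + 1) = prk f r ≫ hyper r R :=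
  (isPullback_prk f (r + 1)).lift_fst _ _ _

@[reassoc]
theorem hyperX_toBase (r : ℕ) :
    hyperX f r ≫ CohB1.ProjSpaceOver.toBase (r + 1) X = CohB1.ProjSpaceOver.toBase r X :=
  (isPullback_prk f (r + 1)).lift_snd _ _ _

theorem isPullback_hyperX (r : ℕ) : IsPullback (prk f r) (hyperX f r) (hyper r R) (prk f (r + 1)) := by
  refine IsPullback.of_bot (h₃₁ := f) (v₂₁ := CohB1.ProjSpaceOver.toBase (r + 1) X)
    (v₂₂ := CohB1.ProjSpace.toSpec (r + 1) R) ?_ (hyperX_prk f r).symm (isPullback_prk f (r + 1))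
  rw [hyperX_toBase, hyper_toSpec]
  exact isPullback_prk f r

instance isClosedImmersion_hyperX (r : ℕ) : IsClosedImmersion (hyperX f r) :=
  MorphismProperty.of_isPullback (P := @IsClosedImmersion) (isPullback_hyperX f r) inferInstance

variable (R) in
/-- The standard affine open `A^n_R` of `P^n_R` (last coordinate nonzero). -/
noncomputable def aff (n : ℕ) : (CohB1.ProjSpace n R).Opens := (chart n R (Fin.last n)).opensRange

variable (R) in
theorem coe_aff (r : ℕ) : (aff R (r + 1) : Set (CohB1.ProjSpace (r + 1) R)) = (Set.range (hyper r R))ᶜ := by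
  rw [range_hyper, compl_compl]
  rfl

variable (R) in
/-- The chart is `Spec R[x_1, …, x_n]`. -/
noncomputable def affIso (n : ℕ) :
    Spec (CommRingCat.of (MvPolynomial (Fin n) R)) ≅ (aff R n : Scheme.{u}) :=
  (chart n R (Fin.last n)).isoOpensRange

/-- The open `A^n_X` of `P^n_X`. -/
noncomputable def affX (n : ℕ) : (CohB1.ProjSpaceOver n X).Opens := prk f n ⁻¹ᵁ aff R n

theorem coe_affX (r : ℕ) :
    (affX f (r + 1) : Set (CohB1.ProjSpaceOver (r + 1) X)) = (Set.range (hyperX f r))ᶜ := by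
  have h1 : (affX f (r + 1) : Set (CohB1.ProjSpaceOver (r + 1) X)) =
      (prk f (r + 1)) ⁻¹' (aff R (r + 1) : Set (CohB1.ProjSpace (r + 1) R)) := rfl
  rw [h1, coe_aff, Set.preimage_compl]
  congr 1
  ext x
  constructor
  · rintro ⟨y, hy⟩
    obtain ⟨z, hz1, hz2⟩ := Scheme.Pullback.exists_preimage_pullback (f := hyper r R) (g := prk f (r + 1)) y x hy
    let e := (isPullback_hyperX f r).isoPullback
    refine ⟨e.inv z, ?_⟩
    rw [← hz2, ← Scheme.Hom.comp_apply, (isPullback_hyperX f r).isoPullback_inv_snd]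
  · rintro ⟨y, rfl⟩
    refine ⟨prk f r y, ?_⟩
    rw [← Scheme.Hom.comp_apply, ← Scheme.Hom.comp_apply, hyperX_prk]

/-- `A^n_X ⟶ A^n_R` is the base change of `P^n_X ⟶ P^n_R`. -/
theorem isPullback_aff (n : ℕ) :
    IsPullback (affX f n).ι ((prk f n) ∣_ aff R n) (prk f n) (aff R n).ι :=
  (isPullback_morphismRestrict (prk f n) (aff R n)).flip

/-- `P^0_X = X`. -/
instance isIso_toBase_zero : IsIso (CohB1.ProjSpaceOver.toBase 0 X) := by
  have h1 : Surjective (chart 0 (ULift.{u} ℤ) 0) := by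
    constructor
    intro x
    obtain ⟨i, hi⟩ := exists_mem_chart 0 (ULift.{u} ℤ) x
    obtain rfl : i = 0 := Fin.eq_zero i
    exact hi
  have h2 : IsIso (chart 0 (ULift.{u} ℤ) 0) :=
    (isIso_iff_isOpenImmersion_and_surjective _).2 ⟨inferInstance, h1⟩
  have h3 : IsIso (CommRingCat.ofHom (C : ULift.{u} ℤ →+* MvPolynomial (Fin 0) (ULift.{u} ℤ))) :=
    (ConcreteCategory.isIso_iff_bijective _).mpr (MvPolynomial.isEmptyRingEquiv (ULift.{u} ℤ) (Fin 0)).symm.bijective
  have h4 : IsIso (CohB1.ProjSpace.toSpec 0 (ULift.{u} ℤ)) := by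
    have h5 := chart_toSpec 0 (ULift.{u} ℤ) 0
    have h6 : IsIso (chart 0 (ULift.{u} ℤ) 0 ≫ CohB1.ProjSpace.toSpec 0 (ULift.{u} ℤ)) := by
      rw [h5]
      infer_instance
    exact IsIso.of_isIso_comp_left (chart 0 (ULift.{u} ℤ) 0) _
  exact (isPullback_toZ 0 X).isIso_snd_of_isIso

variable (X) in
/-- A section of `P^n_X ⟶ X`. -/
theorem exists_section (n : ℕ) : ∃ s : X ⟶ CohB1.ProjSpaceOver n X,
    s ≫ CohB1.ProjSpaceOver.toBase n X = 𝟙 X := by
  let o : Spec (CommRingCat.of (ULift.{u} ℤ)) ⟶ CohB1.ProjSpace n (ULift.{u} ℤ) :=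
    Spec.map (CommRingCat.ofHom (MvPolynomial.eval (fun _ => (0 : ULift.{u} ℤ)))) ≫ chart n (ULift.{u} ℤ) 0
  refine ⟨(isPullback_toZ n X).lift (specULiftZIsTerminal.from X ≫ o) (𝟙 X) ?_, (isPullback_toZ n X).lift_snd _ _ _⟩
  exact specULiftZIsTerminal.hom_ext _ _

end Groth.Agent.Lefpen.H726.ProjGeo
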