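import Groth.Agent.S3112
import Groth.Agent.Sga5.ProjCoh
import Groth.Agent.Lefpen.H726.ProjGeo
import Groth.Agent.Lefpen.H726.ConstSES
import Groth.Agent.Lefpen.H726.PbcZero
import Groth.Agent.Sga5.ClosedPush
import Groth.Agent.Sga5.HcConst
import Groth.Agent.Sga4B.TateConst
import Groth.Agent.Etrest.HConstIso

/-!
# Compactly supported cohomology of affine space

* `subsingleton_Hc`: `H^q(P^{r+1}_K, j_! ℤ/m) = 0` for `q ≠ 2r + 2`, `j : A^{r+1}_K ⟶ P^{r+1}_K`, `K` algebraically
  closed, `m` invertible in `K`.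
* `isZero_Rpush_shriek`: `R^q π_*(j_! ℤ/m) = 0` for `q ≠ 2r + 2`, for `A^{r+1}_X ⟶ P^{r+1}_X ⟶ X` and `X` over a
  separably closed field.
-/

set_option autoImplicit false
universe u

open CategoryTheory CategoryTheory.Limits AlgebraicGeometry Opposite

namespace Groth.Agent.Lefpen.H726.HcAff

open ProjGeo PbcZero Groth.Agent.Sga4B

theorem isCompl_aff (R : Type u) [CommRing R] (r : ℕ) :
    IsCompl (Set.range (Groth.Agent.Sga5.ProjHyper.hyper r R)) (Set.range (aff R (r + 1)).ι) := by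
  rw [Scheme.Opens.range_ι, coe_aff]
  exact isCompl_compl

theorem isCompl_affX {R : Type u} [CommRing R] {X : Scheme.{u}} (f : X ⟶ Spec (CommRingCat.of R)) (r : ℕ) :
    IsCompl (Set.range (hyperX f r)) (Set.range (affX f (r + 1)).ι) := by
  rw [Scheme.Opens.range_ι, coe_affX]
  exact isCompl_compl

section Field

variable (K : Type u) [Field K] (m : ℕ) (hm : (m : K) ≠ 0)

include hm in
theorem large [IsSepClosed K] (r q : ℕ) (hq : 2 * (r + 1) < q) :
    Subsingleton (EtCoh.H (CohB1.ProjSpace (r + 1) K)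
      ((EtShriek.extZero (aff K (r + 1)).ι).obj (EtCoh.const _ (ZMod m))) q) := by
  obtain ⟨a, b, w, hS⟩ := ConstSES.exists_ses (Groth.Agent.Sga5.ProjHyper.hyper r K) (aff K (r + 1)).ι
    (isCompl_aff K r) (ZMod m)
  obtain ⟨q, rfl⟩ : ∃ p, q = p + 1 := ⟨q - 1, by omega⟩
  refine ConstSES.subsingleton_H₁ hS q ?_ ?_
  · exact Groth.Agent.Sga5.ProjCoh.odd_or_large K m hm (r + 1) (q + 1) (Or.inr hq)
  · obtain ⟨e⟩ := Groth.Agent.Sga5.ClosedPush.nonempty_H_push (Groth.Agent.Sga5.ProjHyper.hyper r K)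
      (EtCoh.const _ (ZMod m)) q
    have := Groth.Agent.Sga5.ProjCoh.odd_or_large K m hm r q (Or.inr (by omega))
    exact e.toEquiv.subsingleton

instance smooth_aff (n : ℕ) : SmoothOfRelativeDimension n ((aff K n).ι ≫ CohB1.ProjSpace.toSpec n K) := by
  have h1 : SmoothOfRelativeDimension n (CohB1.ProjSpace.toSpec n K) :=
    Groth.Agent.Sga5.ProjSmooth.smooth_toSpec n K
  have h2 : SmoothOfRelativeDimension (0 + n) ((aff K n).ι ≫ CohB1.ProjSpace.toSpec n K) := inferInstance
  rwa [zero_add] at h2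

include hm in
theorem small [IsAlgClosed K] (n q : ℕ) (hq : q < 2 * n) :
    Subsingleton (EtCoh.H (CohB1.ProjSpace n K)
      ((EtShriek.extZero (aff K n).ι).obj (EtCoh.const _ (ZMod m))) q) := by
  have hm0 : m ≠ 0 := by
    rintro rfl
    exact hm (by simp)
  have hproper : IsProper (CohB1.ProjSpace.toSpec n K) := Groth.Agent.Dix.ProjProper.isProper_toSpec n K
  obtain ⟨e⟩ := Groth.Agent.S3112.result K (CohB1.ProjSpace.toSpec n K) (aff K n).ι n m hm q (by omega)
  have h1 : Subsingleton (EtCoh.H (aff K n : Scheme.{u}) (EtDual.tate (aff K n : Scheme.{u}) m n) (2 * n - q)) := by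
    obtain ⟨t⟩ := TateConst.nonempty_iso K m hm ((aff K n).ι ≫ CohB1.ProjSpace.toSpec n K) n
    refine HTools.subsingleton_H_of_iso t _ ?_
    obtain ⟨e'⟩ := Groth.Agent.Etrest.HConstIso.nonempty_HConst (affIso K n) (ZMod m) (2 * n - q)
    have := Groth.Agent.Sga5.ProjCoh.subsingleton_H_spec K m hm n (2 * n - q) (by omega)
    exact e'.toEquiv.subsingleton
  have h2 := e.symm.toEquiv.subsingleton
  exact Groth.Agent.Sga5.HcConst.subsingleton_of_hom_zmod m hm0
    (Groth.Agent.Sga5.HcConst.H_nsmul_eq_zero m _ (ShriekTools.killedBy_extZero (aff K n).ι m _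
      (Groth.Agent.Etrest.ConstBasic.killedBy_const _ (ZMod m) m (fun a => by simp))) q) h2

include hm in
/-- Cohomology with compact support of affine space over an algebraically closed field. -/
theorem subsingleton_Hc [IsAlgClosed K] (r q : ℕ) (hq : q ≠ 2 * (r + 1)) :
    Subsingleton (EtCoh.H (CohB1.ProjSpace (r + 1) K)
      ((EtShriek.extZero (aff K (r + 1)).ι).obj (EtCoh.const _ (ZMod m))) q) := by
  rcases Nat.lt_or_gt_of_ne hq with h | h
  · exact small K m hm (r + 1) q h
  · exact large K m hm r q h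

end Field

end Groth.Agent.Lefpen.H726.HcAff
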