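import Groth.Agent.Lefpen.H726.HcAff
import Groth.Agent.Etcore.ShriekBaseChange

/-!
# Higher direct images of `j_! ℤ/m` for `A^{r+1}_X ⟶ P^{r+1}_X ⟶ X`

`isZero_Rpush_shriek`: `R^q π_*(j_! ℤ/m) = 0` for `q ≠ 2r + 2`, for `X` over a separably closed field in which `m` is
invertible.
-/

set_option autoImplicit false
universe u

open CategoryTheory CategoryTheory.Limits AlgebraicGeometry Opposite

namespace Groth.Agent.Lefpen.H726.RpushAff

open ProjGeo PbcZero Groth.Agent.Sga4B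

/-- Extension by zero of a constant sheaf commutes with base change. -/
theorem nonempty_pull_extZero {P P' : Scheme.{u}} (g : P' ⟶ P) (V : P.Opens) (M : Type) [AddCommGroup M] :
    Nonempty ((EtCoh.pull g).obj ((EtShriek.extZero V.ι).obj (EtCoh.const V M)) ≅
      (EtShriek.extZero (g ⁻¹ᵁ V).ι).obj (EtCoh.const (g ⁻¹ᵁ V : P'.Opens) M)) := by
  have h : IsPullback (g ⁻¹ᵁ V).ι (g ∣_ V) g V.ι := (isPullback_morphismRestrict g V).flip
  exact ⟨((Groth.Agent.Etcore.ShriekBaseChange.extZeroBaseChange V.ι g (g ⁻¹ᵁ V).ι (g ∣_ V) h).symm.app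
    (EtCoh.const V M)) ≪≫ (EtShriek.extZero (g ⁻¹ᵁ V).ι).mapIso (EtCore.pullConst (g ∣_ V) M)⟩

theorem preimage_aff {A B : Type u} [CommRing A] [CommRing B] (φ : A →+* B) (n : ℕ) :
    Groth.Agent.CohqB.ProjBC.pmap φ n ⁻¹ᵁ aff A n = aff B n := by
  have h1 : aff A n = Proj.basicOpen (CohB1.polyGrading n A) (MvPolynomial.X (Fin.last n)) :=
    Groth.Agent.Sga5.ProjSmooth.opensRange_chart n A (Fin.last n)
  have h2 : aff B n = Proj.basicOpen (CohB1.polyGrading n B) (MvPolynomial.X (Fin.last n)) :=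
    Groth.Agent.Sga5.ProjSmooth.opensRange_chart n B (Fin.last n)
  rw [h1, h2]
  have h3 := Proj.map_preimage_basicOpen (Groth.Agent.CohqB.ProjBC.gmap φ n)
    (Groth.Agent.CohqB.ProjBC.irrelevant_le φ n) (MvPolynomial.X (Fin.last n))
  rw [Groth.Agent.CohqB.ProjBC.gmap_apply, MvPolynomial.map_X] at h3
  exact h3

variable (k : Type u) [Field k] [IsSepClosed k] (m : ℕ) (hm : (m : k) ≠ 0)

include hm

theorem isTorsion_shriek {P : Scheme.{u}} (V : P.Opens) :
    EtCoh.IsTorsion ((EtShriek.extZero V.ι).obj (EtCoh.const V (ZMod m))) := by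
  have hm0 : m ≠ 0 := by
    rintro rfl
    exact hm (by simp)
  exact Groth.Agent.Etrest.ConstBasic.isTorsion_of_killedBy (Nat.pos_of_ne_zero hm0)
    (ShriekTools.killedBy_extZero V.ι m _
      (Groth.Agent.Etrest.ConstBasic.killedBy_const _ (ZMod m) m (fun a => by simp)))

theorem isZero_Rpush_toSpec (r q : ℕ) (hq : q ≠ 2 * (r + 1)) :
    IsZero ((EtCoh.Rpush (CohB1.ProjSpace.toSpec (r + 1) k) q).obj
      ((EtShriek.extZero (aff k (r + 1)).ι).obj (EtCoh.const _ (ZMod m)))) := by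
  let K := AlgebraicClosure k
  let φ : k →+* K := algebraMap k K
  have hmK : (m : K) ≠ 0 := by
    have := (map_ne_zero φ).2 hm
    rwa [map_natCast] at this
  have hs : Surjective (Spec.map (CommRingCat.ofHom φ)) := by
    constructor
    intro x
    exact ⟨(default : Spec (CommRingCat.of K)), Subsingleton.elim (α := Spec (CommRingCat.of k)) _ _⟩
  have hp : IsProper (CohB1.ProjSpace.toSpec (r + 1) k) := Groth.Agent.Dix.ProjProper.isProper_toSpec _ k
  refine isZero_Rpush_of_pull (Groth.Agent.CohqB.ProjBC.isPullback_pmap φ (r + 1)) _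
    (isTorsion_shriek k m hm _) q ?_
  obtain ⟨e⟩ := nonempty_pull_extZero (Groth.Agent.CohqB.ProjBC.pmap φ (r + 1)) (aff k (r + 1)) (ZMod m)
  rw [preimage_aff φ (r + 1)] at e
  refine IsZero.of_iso ?_ ((EtCoh.Rpush (CohB1.ProjSpace.toSpec (r + 1) K) q).mapIso e)
  have : IsSepClosed K := inferInstance
  exact isZero_Rpush _ _ q (HcAff.subsingleton_Hc K m hmK r q hq)

theorem isZero_Rpush_shriek {X : Scheme.{u}} (f : X ⟶ Spec (CommRingCat.of k)) (r q : ℕ)
    (hq : q ≠ 2 * (r + 1)) :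
    IsZero ((EtCoh.Rpush (CohB1.ProjSpaceOver.toBase (r + 1) X) q).obj
      ((EtShriek.extZero (affX f (r + 1)).ι).obj (EtCoh.const _ (ZMod m)))) := by
  have hp : IsProper (CohB1.ProjSpace.toSpec (r + 1) k) := Groth.Agent.Dix.ProjProper.isProper_toSpec _ k
  have h1 := isZero_Rpush_pull (isPullback_prk f (r + 1)) _ (isTorsion_shriek k m hm _) q
    (isZero_Rpush_toSpec k m hm r q hq)
  obtain ⟨e⟩ := nonempty_pull_extZero (prk f (r + 1)) (aff k (r + 1)) (ZMod m)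
  exact h1.of_iso ((EtCoh.Rpush (CohB1.ProjSpaceOver.toBase (r + 1) X) q).mapIso e.symm)

theorem isTorsion_const (P : Scheme.{u}) : EtCoh.IsTorsion (EtCoh.const P (ZMod m)) := by
  have hm0 : m ≠ 0 := by
    rintro rfl
    exact hm (by simp)
  exact Groth.Agent.Etrest.ConstBasic.isTorsion_of_killedBy (Nat.pos_of_ne_zero hm0)
      (Groth.Agent.Etrest.ConstBasic.killedBy_const _ (ZMod m) m (fun a => by simp))

/-- `R^q π_* ℤ/m = 0` for `q` odd or `q > 2n`, `π : P^n_X ⟶ X`. -/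
theorem isZero_Rpush_const {X : Scheme.{u}} (f : X ⟶ Spec (CommRingCat.of k)) (n q : ℕ)
    (hq : Odd q ∨ 2 * n < q) :
    IsZero ((EtCoh.Rpush (CohB1.ProjSpaceOver.toBase n X) q).obj
      (EtCoh.const (CohB1.ProjSpaceOver n X) (ZMod m))) := by
  have hp : IsProper (CohB1.ProjSpace.toSpec n k) := Groth.Agent.Dix.ProjProper.isProper_toSpec _ k
  have h1 := isZero_Rpush_pull (isPullback_prk f n) _ (isTorsion_const k m hm _) q
    (isZero_Rpush (CohB1.ProjSpace.toSpec n k) (EtCoh.const _ (ZMod m)) q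
      (Groth.Agent.Sga5.ProjCoh.odd_or_large k m hm n q hq))
  exact h1.of_iso ((EtCoh.Rpush (CohB1.ProjSpaceOver.toBase n X) q).mapIso
    (EtCore.pullConst (prk f n) (ZMod m)).symm)

/-- `R^{2i} π_* ℤ/m ≅ ℤ/m` for `i ≤ n`, `π : P^n_X ⟶ X`. -/
theorem nonempty_Rpush_const {X : Scheme.{u}} (f : X ⟶ Spec (CommRingCat.of k)) (n i : ℕ)
    (hi : i ≤ n) :
    Nonempty ((EtCoh.Rpush (CohB1.ProjSpaceOver.toBase n X) (2 * i)).obj
      (EtCoh.const (CohB1.ProjSpaceOver n X) (ZMod m)) ≅ EtCoh.const X (ZMod m)) := by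
  have hp : IsProper (CohB1.ProjSpace.toSpec n k) := Groth.Agent.Dix.ProjProper.isProper_toSpec _ k
  obtain ⟨e⟩ := Groth.Agent.Sga5.ProjCoh.even k m hm n i hi
  obtain ⟨e1⟩ := nonempty_Rpush_iso_const (CohB1.ProjSpace.toSpec n k) (EtCoh.const _ (ZMod m)) (2 * i)
    (ZMod m) e
  obtain ⟨e2⟩ := nonempty_Rpush_pull (isPullback_prk f n) (EtCoh.const _ (ZMod m)) (isTorsion_const k m hm _)
    (2 * i)
  exact ⟨(EtCoh.Rpush (CohB1.ProjSpaceOver.toBase n X) (2 * i)).mapIso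
    (EtCore.pullConst (prk f n) (ZMod m)).symm ≪≫ e2.symm ≪≫ (EtCoh.pull f).mapIso e1.symm ≪≫
    EtCore.pullConst f (ZMod m)⟩

end Groth.Agent.Lefpen.H726.RpushAff
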