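import Groth.Agent.Lefpen.H726.RpushAff
import Groth.Agent.Etbase.PushExact
import Groth.Agent.EtpbcB.RDerLES
import Groth.Agent.Sga4h.PushDer

/-!
# The inductive step `P^r_X ⊂ P^{r+1}_X` for étale cohomology with `ℤ/m` coefficients

`step_large`: `H^n(P^{r+1}_X, ℤ/m) ≃ H^n(P^r_X, ℤ/m) × H^i(X, ℤ/m)`, `i + 2(r+1) = n`;
`step_small`: `H^n(P^{r+1}_X, ℤ/m) ≃ H^n(P^r_X, ℤ/m)`, `n < 2(r+1)`.
-/

set_option autoImplicit false
universe u

open CategoryTheory CategoryTheory.Limits AlgebraicGeometry Opposite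

namespace Groth.Agent.Lefpen.H726.Step

open ProjGeo PbcZero Groth.Agent.Sga4B

section General

variable {Z P X : Scheme.{u}} (i : Z ⟶ P) [IsClosedImmersion i] (π : P ⟶ X)

/-- `R^q π_*(i_* F) = R^q (i ≫ π)_* F` for a closed immersion `i`. -/
theorem nonempty_Rpush_closed (F : EtCoh.Ab Z) (q : ℕ) :
    Nonempty ((EtCoh.Rpush π q).obj ((EtCoh.push i).obj F) ≅ (EtCoh.Rpush (i ≫ π) q).obj F) := by
  have h1 := Groth.Agent.Sga5.ClosedPush.preservesFiniteColimits_push i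
  refine ⟨Groth.Agent.Sga4h.PushDer.rpushCompIso i π F (fun p hp => ?_) q⟩
  obtain ⟨p, rfl⟩ : ∃ p', p = p' + 1 := ⟨p - 1, by omega⟩
  exact Groth.Agent.Etbase.PushExact.isZero_rightDerived_of_exact (EtCoh.push i) F p

/-- For a short exact sequence with `R^q π_* X₃ = 0`, `q = n, n + 1`, the map `R^{n+1} π_* X₁ ⟶ R^{n+1} π_* X₂` is
an isomorphism. -/
theorem isIso_Rpush_map {S : ShortComplex (EtCoh.Ab P)} (hS : S.ShortExact) (n : ℕ)
    (h0 : IsZero ((EtCoh.Rpush π n).obj S.X₃)) (h1 : IsZero ((EtCoh.Rpush π (n + 1)).obj S.X₃)) :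
    IsIso ((EtCoh.Rpush π (n + 1)).map S.f) := by
  have hm : Mono ((EtCoh.Rpush π (n + 1)).map S.f) :=
    (Groth.Agent.EtpbcB.RDerLES.exact₁ (EtCoh.push π) hS n).mono_g (h0.eq_of_src _ _)
  have he : Epi ((EtCoh.Rpush π (n + 1)).map S.f) :=
    (Groth.Agent.EtpbcB.RDerLES.exact₂ (EtCoh.push π) hS (n + 1)).epi_f (h1.eq_of_tgt _ _)
  exact isIso_of_mono_of_epi _

theorem subsingleton_H_of_isZero {X : Scheme.{u}} {F : EtCoh.Ab X} (h : IsZero F) (n : ℕ) :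
    Subsingleton (EtCoh.H X F n) := by
  have h1 : IsZero ((EtCoh.HF X n).obj F) := Functor.map_isZero _ h
  exact AddCommGrpCat.subsingleton_of_isZero h1

end General

section Split

variable {P X : Scheme.{u}} (π : P ⟶ X) (d : ℕ) {S : ShortComplex (EtCoh.Ab P)} (hS : S.ShortExact)
  (h1 : ∀ q, q ≠ d → IsZero ((EtCoh.Rpush π q).obj S.X₁))
  (h2 : ∀ q, d < q → IsZero ((EtCoh.Rpush π q).obj S.X₂))
  (hiso : IsIso ((EtCoh.Rpush π d).map S.f))

include h1 h2 hiso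

/-- The retraction given by the top edge map is bijective on `H^n(P, X₁)`. -/
theorem bijective_edge (n i : ℕ) (h : i + d = n) :
    Function.Bijective (fun x : EtCoh.H P S.X₁ n =>
      TwoRowEt.highH π d n i h S.X₂ h2 (((EtCoh.HF P n).map S.f).hom x)) := by
  have hz : ∀ q, d < q → IsZero ((EtCoh.Rpush π q).obj S.X₁) := fun q hq => h1 q (by omega)
  have b1 : Function.Bijective (TwoRowEt.highH π d n i h S.X₁ hz) :=
    TwoRowEt.highH_bijective π d n i h S.X₁ hz (fun q j hq _ =>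
      subsingleton_H_of_isZero (h1 q (by omega)) j)
  have b2 : Function.Bijective (((EtCoh.HF X i).map ((EtCoh.Rpush π d).map S.f)).hom) :=
    ConcreteCategory.bijective_of_isIso ((EtCoh.HF X i).map ((EtCoh.Rpush π d).map S.f))
  have e : (fun x : EtCoh.H P S.X₁ n =>
      TwoRowEt.highH π d n i h S.X₂ h2 (((EtCoh.HF P n).map S.f).hom x)) =
      (((EtCoh.HF X i).map ((EtCoh.Rpush π d).map S.f)).hom) ∘ (TwoRowEt.highH π d n i h S.X₁ hz) :=
    funext fun x => TwoRowEt.highH_naturality π d n i h S.f hz h2 x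
  rw [e]
  exact b2.comp b1

theorem injective_map (n : ℕ) (x : EtCoh.H P S.X₁ n) (hx : ((EtCoh.HF P n).map S.f).hom x = 0) : x = 0 := by
  by_cases hn : d ≤ n
  · have hb := bijective_edge π d h1 h2 hiso n (n - d) (by omega)
    apply hb.1
    change TwoRowEt.highH π d n (n - d) _ S.X₂ h2 (((EtCoh.HF P n).map S.f).hom x) =
      TwoRowEt.highH π d n (n - d) _ S.X₂ h2 (((EtCoh.HF P n).map S.f).hom 0)
    rw [hx, map_zero]
  · have hs : Subsingleton (EtCoh.H P S.X₁ n) :=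
      TwoRowEt.subsingleton_H π d n S.X₁ (fun q hq => h1 q (by omega)) (fun q j hq hj =>
        subsingleton_H_of_isZero (h1 q (by omega)) j)
    exact Subsingleton.elim _ _

include hS

/-- If `R^q π_* X₁` vanishes for `q ≠ d`, `R^q π_* X₂ = 0` for `q > d` and `R^d π_* X₁ ≅ R^d π_* X₂`, then
`H^n(P, X₂) = H^n(P, X₃) × H^{n-d}(X, R^d π_* X₂)`. -/
theorem nonempty_large (n i : ℕ) (h : i + d = n) :
    Nonempty (EtCoh.H P S.X₂ n ≃+ EtCoh.H P S.X₃ n × EtCoh.H X ((EtCoh.Rpush π d).obj S.X₂) i) :=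
  ConstSES.nonempty_splitH hS n (TwoRowEt.highH π d n i h S.X₂ h2)
    (bijective_edge π d h1 h2 hiso n i h) (injective_map π d h1 h2 hiso (n + 1))

theorem nonempty_small (n : ℕ) (h : n < d) : Nonempty (EtCoh.H P S.X₂ n ≃+ EtCoh.H P S.X₃ n) := by
  have hs : Subsingleton (EtCoh.H P S.X₁ n) :=
    TwoRowEt.subsingleton_H π d n S.X₁ (fun q hq => h1 q (by omega)) (fun q j hq hj =>
      subsingleton_H_of_isZero (h1 q (by omega)) j)
  obtain ⟨e⟩ := ConstSES.nonempty_splitH (M := PUnit.{u + 1}) hS n 0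
    ⟨fun _ _ _ => Subsingleton.elim _ _, fun _ => ⟨0, Subsingleton.elim _ _⟩⟩
    (injective_map π d h1 h2 hiso (n + 1))
  exact ⟨e.trans AddEquiv.prodUnique⟩

end Split

section Proj

variable (k : Type u) [Field k] [IsSepClosed k] (m : ℕ) (hm : (m : k) ≠ 0)
  {X : Scheme.{u}} (f : X ⟶ Spec (CommRingCat.of k)) (r : ℕ)

include hm f

/-- The data of the inductive step: a short exact sequence on `P^{r+1}_X`. -/
theorem exists_data : ∃ (S : ShortComplex (EtCoh.Ab (CohB1.ProjSpaceOver (r + 1) X))) (_ : S.ShortExact)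
    (_ : S.X₂ = EtCoh.const _ (ZMod m)) (_ : ∀ n, Nonempty (EtCoh.H _ S.X₃ n ≃+
      EtCoh.H (CohB1.ProjSpaceOver r X) (EtCoh.const _ (ZMod m)) n)),
    (∀ q, q ≠ 2 * (r + 1) → IsZero ((EtCoh.Rpush (CohB1.ProjSpaceOver.toBase (r + 1) X) q).obj S.X₁)) ∧
    (∀ q, 2 * (r + 1) < q → IsZero ((EtCoh.Rpush (CohB1.ProjSpaceOver.toBase (r + 1) X) q).obj S.X₂)) ∧
    IsIso ((EtCoh.Rpush (CohB1.ProjSpaceOver.toBase (r + 1) X) (2 * (r + 1))).map S.f) := by
  obtain ⟨a, b, w, hS⟩ := ConstSES.exists_ses (hyperX f r) (affX f (r + 1)).ι (HcAff.isCompl_affX f r) (ZMod m)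
  have hz : ∀ q, (Odd q ∨ 2 * r < q) →
      IsZero ((EtCoh.Rpush (CohB1.ProjSpaceOver.toBase (r + 1) X) q).obj
        ((EtCoh.push (hyperX f r)).obj (EtCoh.const _ (ZMod m)))) := by
    intro q hq
    obtain ⟨e⟩ := nonempty_Rpush_closed (hyperX f r) (CohB1.ProjSpaceOver.toBase (r + 1) X)
      (EtCoh.const _ (ZMod m)) q
    refine IsZero.of_iso ?_ e
    rw [hyperX_toBase]
    exact RpushAff.isZero_Rpush_const k m hm f r q hq
  refine ⟨_, hS, rfl, fun n => Groth.Agent.Sga5.ClosedPush.nonempty_H_push (hyperX f r) _ n,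
    fun q hq => RpushAff.isZero_Rpush_shriek k m hm f r q hq,
    fun q hq => RpushAff.isZero_Rpush_const k m hm f (r + 1) q (Or.inr hq), ?_⟩
  exact isIso_Rpush_map _ hS (2 * r + 1) (hz _ (Or.inl ⟨r, rfl⟩)) (hz _ (Or.inr (by omega)))

theorem step_large (n i : ℕ) (h : i + 2 * (r + 1) = n) :
    Nonempty (EtCoh.H (CohB1.ProjSpaceOver (r + 1) X) (EtCoh.const _ (ZMod m)) n ≃+
      EtCoh.H (CohB1.ProjSpaceOver r X) (EtCoh.const _ (ZMod m)) n × EtCoh.H X (EtCoh.const X (ZMod m)) i) := by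
  obtain ⟨S, hS, h2, h3, hz1, hz2, hiso⟩ := exists_data k m hm f r
  obtain ⟨e3⟩ := h3 n
  obtain ⟨e⟩ := nonempty_large _ _ hS hz1 hz2 hiso n i h
  rw [h2] at e
  obtain ⟨t⟩ := RpushAff.nonempty_Rpush_const k m hm f (r + 1) (r + 1) le_rfl
  exact ⟨e.trans (e3.prodCongr (HTools.HCongr t i))⟩

theorem step_small (n : ℕ) (h : n < 2 * (r + 1)) :
    Nonempty (EtCoh.H (CohB1.ProjSpaceOver (r + 1) X) (EtCoh.const _ (ZMod m)) n ≃+
      EtCoh.H (CohB1.ProjSpaceOver r X) (EtCoh.const _ (ZMod m)) n) := by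
  obtain ⟨S, hS, h2, h3, hz1, hz2, hiso⟩ := exists_data k m hm f r
  obtain ⟨e3⟩ := h3 n
  obtain ⟨e⟩ := nonempty_small _ _ hS hz1 hz2 hiso n h
  rw [h2] at e
  exact ⟨e.trans e3⟩

end Proj

end Groth.Agent.Lefpen.H726.Step
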